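import Groth.Agent.FlatSurjDesc.Ring
import Groth.Agent.RelPCFppf.Scheme
import Groth.Agent.PerfGen7.RelPerfectFibres
import Groth.Agent.KFlatLib.Scheme.FlatDescent
import Groth.Agent.KFlatLib.Perfect.Amplitude
import Mathlib.AlgebraicGeometry.Morphisms.Descent
import Groth.Agent.QCoh.Tilde

/-!
# Flatness in degree zero descends along surjective morphisms of finite presentation
-/

set_option linter.style.haveILetI false
set_option backward.isDefEq.respectTransparency false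
set_option backward.isDefEq.respectTransparency.types false

universe u

open CategoryTheory CategoryTheory.Limits AlgebraicGeometry

attribute [local instance] HasDerivedCategory.standard

namespace Groth.Agent.FlatSurjDesc

open Groth.Agent.KFlatLib Groth.Agent.H9Misc Groth.Agent.PerfGen7

variable {X S : Scheme.{u}}

lemma flatAmplitude_of_iso {a b : ℤ} {E E' : DCoh.D X} (e : E ≅ E') (h : DCoh.HasFlatAmplitudeIn a b E) :
    DCoh.HasFlatAmplitudeIn a b E' := by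
  obtain ⟨K, hv, hf, ⟨eK⟩⟩ := h
  exact ⟨K, hv, hf, ⟨eK ≪≫ e⟩⟩

lemma flatAmplitude_inD {F : X.Modules} (hF : FlatMod.IsFlat F) : DCoh.HasFlatAmplitudeIn 0 0 (DCoh.inD X F) :=
  ⟨(HomologicalComplex.single X.Modules (ComplexShape.up ℤ) 0).obj F,
    fun i hi => HomologicalComplex.isZero_single_obj_X _ _ _ _ (by omega),
    fun i => if h : i = 0 then
        IsFlat.of_iso (h ▸ (HomologicalComplex.singleObjXSelf (ComplexShape.up ℤ) 0 F).symm) hF
      else IsFlat.of_isZero (HomologicalComplex.isZero_single_obj_X _ _ _ _ h),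
    ⟨((DerivedCategory.singleFunctorIsoCompQ X.Modules 0).app F).symm⟩⟩

lemma exists_iso_inD {M : DCoh.D X} (h : DCoh.HasFlatAmplitudeIn 0 0 M) :
    ∃ G : X.Modules, FlatMod.IsFlat G ∧ Nonempty (M ≅ DCoh.inD X G) := by
  obtain ⟨K, hv, hf, ⟨eK⟩⟩ := h
  haveI : K.IsStrictlyGE 0 := (CochainComplex.isStrictlyGE_iff K 0).2 fun i hi => hv i (Or.inl hi)
  haveI : K.IsStrictlyLE 0 := (CochainComplex.isStrictlyLE_iff K 0).2 fun i hi => hv i (Or.inr hi)
  obtain ⟨G, ⟨e⟩⟩ := CochainComplex.exists_iso_single K 0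
  exact ⟨G, IsFlat.of_iso ((HomologicalComplex.eval X.Modules (ComplexShape.up ℤ) 0).mapIso e ≪≫
      HomologicalComplex.singleObjXSelf (ComplexShape.up ℤ) 0 G) (hf 0),
    ⟨eK.symm ≪≫ DerivedCategory.Q.mapIso e ≪≫ ((DerivedCategory.singleFunctorIsoCompQ X.Modules 0).app G).symm⟩⟩

theorem descends (f : X ⟶ S) [Surjective f] [LocallyOfFinitePresentation f] [QuasiCompact f]
    [DCoh.HasLpull f] (M : DCoh.D S) (hM : DCoh.IsQCohD M) (hpos : ∀ i : ℤ, 0 < i → IsZero (DCoh.HD M i))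
    {F : X.Modules} (hF : FlatMod.IsFlat F) (eF : (DCoh.Lpull f).obj M ≅ DCoh.inD X F) :
    ∃ G : S.Modules, FlatMod.IsFlat G ∧ Nonempty (M ≅ DCoh.inD S G) := by
  refine exists_iso_inD (flatAmplitude_of_torAmplitude (fun G => hasLTensorMod G) le_rfl
    (torAmplitude_of_local M fun s => ?_))
  obtain ⟨V, hV, hsV, -⟩ := exists_isAffineOpen_mem_and_subset (x := s) (U := (⊤ : S.Opens)) trivial
  refine ⟨_, hV.fromSpec, inferInstance, hV.range_fromSpec.ge hsV, torAmplitude_of_flatAmplitude ?_⟩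
  obtain ⟨N, ⟨e⟩⟩ := exists_tilde_fromSpec hV hM
  refine flatAmplitude_of_iso e ((flatAmplitude_tildeD_iff N 0 0).2 ?_)
  haveI : CompactSpace (f ⁻¹ᵁ V).toScheme := isCompact_iff_compactSpace.1 (f.isCompact_preimage hV.isCompact)
  obtain ⟨W, p, hp, hpe, hW⟩ := Scheme.exists_hom_isAffine_of_isZariskiLocalAtSource @Etale (f ⁻¹ᵁ V).toScheme
  let c : W ⟶ X := p ≫ (f ⁻¹ᵁ V).ι
  let h : W ⟶ S := c ≫ f
  have hle : (⊤ : W.Opens) ≤ h ⁻¹ᵁ V := fun w _ => (p w).2
  have hW' : IsAffineOpen (⊤ : W.Opens) := isAffineOpen_top W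
  haveI := hasLpull c
  haveI := hasLpull h
  obtain ⟨ec⟩ := nonempty_lpull_comp c f h rfl M
  have hE : DCoh.HasFlatAmplitudeIn 0 0 ((DCoh.Lpull h).obj M) :=
    flatAmplitude_of_iso ec (flatAmplitude_lpull c (flatAmplitude_of_iso eF.symm (flatAmplitude_inD hF)))
  haveI := isClosedImmersion_toSpecΓ hV
  haveI := isClosedImmersion_toSpecΓ hW'
  haveI := RelPCFppf.isIso_toSpecΓ' hV
  haveI := RelPCFppf.isIso_toSpecΓ' hW'
  let φ := (h.appLE V ⊤ hle).hom
  haveI : DRing.HasLBaseChange φ := DRingLBase.hasLBaseChange _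
  obtain ⟨e'⟩ := RelPCFppf.nonempty_tilde_lpull h hV hW' hle N (e ≪≫ (pushToSpecIso hV M).symm)
  have hB : DRing.HasTorAmplitudeIn Γ(W, ⊤) 0 0 ((DRing.LBaseChange φ).obj N) := by
    obtain ⟨K, hKv, hKf, ⟨eK⟩⟩ := hE
    refine (flatAmplitude_tildeD_iff _ 0 0).1 ⟨(rCx hW'.fromSpec).obj K,
      fun i hi => (Scheme.Modules.restrictFunctor hW'.fromSpec).map_isZero (hKv i hi),
      fun i => IsFlat.of_iso ((Scheme.Modules.restrictFunctorIsoPullback hW'.fromSpec).app _).symm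
        (isFlat_pullback hW'.fromSpec (hKf i)),
      ⟨((rhoQ hW'.fromSpec).app K).symm ≪≫ (rho hW'.fromSpec).mapIso eK ≪≫
        (pushToSpecIso hW' _).symm ≪≫ e'.symm⟩⟩
  letI := φ.toAlgebra
  haveI : Algebra.FinitePresentation Γ(S, V) Γ(W, ⊤) :=
    HasRingHomProperty.appLE @LocallyOfFinitePresentation h inferInstance ⟨V, hV⟩ ⟨⊤, hW'⟩ hle
  refine hasTorAmplitudeIn_descends (fun q => ?_) N (fun m hm => ?_) hB
  · obtain ⟨x, hx⟩ := f.surjective (hV.fromSpec q)
    have hxV : x ∈ f ⁻¹ᵁ V := by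
      show f x ∈ V
      rw [hx]
      exact hV.range_fromSpec.le ⟨q, rfl⟩
    obtain ⟨w, hw⟩ := p.surjective ⟨x, hxV⟩
    obtain ⟨z, hz⟩ := hW'.range_fromSpec.ge (show w ∈ (⊤ : W.Opens) from trivial)
    refine ⟨z, hV.fromSpec.isOpenEmbedding.injective ?_⟩
    show hV.fromSpec (Spec.map (h.appLE V ⊤ hle) z) = _
    rw [← Scheme.Hom.comp_apply, hV.SpecMap_appLE_fromSpec h hW' hle, Scheme.Hom.comp_apply, hz]
    show f ((f ⁻¹ᵁ V).ι (p w)) = _
    rw [hw]
    exact hx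
  · exact (RelPerfectFibres.isZero_hd_tildeD_iff N m).1 (IsZero.of_iso
      (IsZero.of_iso ((Scheme.Modules.restrictFunctor hV.fromSpec).map_isZero (hpos m hm))
        (restrictHDIso hV.fromSpec M m))
      ((DerivedCategory.homologyFunctor _ m).mapIso e))

end Groth.Agent.FlatSurjDesc
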