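import Groth.Agent.FlatSurjDesc.Torsion
import Groth.Agent.S0389

/-!
# Flatness in degree zero descends along a surjective finitely presented ring map
-/

set_option linter.style.haveILetI false
set_option backward.isDefEq.respectTransparency false
set_option backward.isDefEq.respectTransparency.types false

universe u

open CategoryTheory CategoryTheory.Limits MonoidalCategory TensorProduct

attribute [local instance] HasDerivedCategory.standard

namespace Groth.Agent.FlatSurjDesc

open Groth.Agent.KFlatLib Groth.Agent.H9Misc DRingLTensor DRingTor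

variable {A B : Type u} [CommRing A] [CommRing B] [Algebra A B] {P : CochainComplex (ModuleCat.{u} A) ℤ}

/-- `P ⊗ N` is exact in negative degrees for every module over the algebra. -/
def FlatNeg (B : Type u) [CommRing B] [Algebra A B] (P : CochainComplex (ModuleCat.{u} A) ℤ) : Prop :=
  ∀ (N : Type u) [AddCommGroup N] [Module A N] [Module B N] [IsScalarTower A B N], NegExact P N

/-- Extension of scalars with flat zero amplitude. -/
lemma flatNeg_of_exactAt
    (h : ∀ (N : ModuleCat.{u} B) (i : ℤ), i < 0 → ((tensC N).obj ((extC' (algebraMap A B)).obj P)).ExactAt i) :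
    FlatNeg B P := fun N _ _ _ _ i hi => by
  rw [exactAt_iff_exact P N (i - 1) i (i + 1) (by omega) rfl]
  let V : Type u := (ModuleCat.restrictScalars (algebraMap A B)).obj (ModuleCat.of B N)
  have hV := (exactAt_iff_exact P V (i - 1) i (i + 1) (by omega) rfl).1
    (DRingNilp.exactAt_restrict (algebraMap A B) (ModuleCat.of B N) i (h _ i hi))
  let e : V ≃ₗ[A] N :=
    { toFun := fun x => x
      map_add' := fun _ _ => rfl
      map_smul' := fun a x => algebraMap_smul B a (show N from x)
      invFun := fun x => x }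
  exact Function.Exact.of_ladder_linearEquiv_of_exact (e₁ := e.lTensor _) (e₂ := e.lTensor _) (e₃ := e.lTensor _)
    (TensorProduct.ext' fun _ _ => rfl) (TensorProduct.ext' fun _ _ => rfl) hV

/-- Modules over an algebra which becomes faithfully flat. -/
lemma negExact_of_faithful (h : FlatNeg B P) (C : Type u) [CommRing C] [Algebra A C]
    [Module.FaithfullyFlat C (C ⊗[A] B)] (N : Type u) [AddCommGroup N] [Module A N] [Module C N]
    [IsScalarTower A C N] : NegExact P N := fun i hi => by
  let R' := C ⊗[A] B
  let N' := R' ⊗[C] N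
  letI : Module B N' := Module.compHom N' (Algebra.TensorProduct.includeRight : B →ₐ[A] R').toRingHom
  haveI : IsScalarTower A B N' := IsScalarTower.of_algebraMap_smul fun a x => by
    show ((Algebra.TensorProduct.includeRight : B →ₐ[A] R') (algebraMap A B a)) • x = a • x
    rw [AlgHom.commutes, algebraMap_smul]
  rw [exactAt_iff_exact P N (i - 1) i (i + 1) (by omega) rfl]
  have hN' : Function.Exact ((P.d (i - 1) i).hom.rTensor N') ((P.d i (i + 1)).hom.rTensor N') :=
    (exactAt_iff_exact P N' (i - 1) i (i + 1) (by omega) rfl).1 (h N' i hi)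
  let d₁ := AlgebraTensorModule.lTensor C N (P.d (i - 1) i).hom
  let d₂ := AlgebraTensorModule.lTensor C N (P.d i (i + 1)).hom
  have hb : Function.Exact (d₁.lTensor R') (d₂.lTensor R') := by
    let E : ∀ j, P.X j ⊗[A] N' ≃ₗ[A] R' ⊗[C] (N ⊗[A] P.X j) := fun j =>
      TensorProduct.comm A (P.X j) N' ≪≫ₗ (AlgebraTensorModule.assoc A C C R' N (P.X j)).restrictScalars A
    have comm : ∀ (p q : ℤ), ((AlgebraTensorModule.lTensor C N (P.d p q).hom).lTensor R').restrictScalars A ∘ₗ
        (E p).toLinearMap = (E q).toLinearMap ∘ₗ (P.d p q).hom.rTensor N' := fun p q => by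
      refine TensorProduct.ext' fun x y => ?_
      induction y using TensorProduct.induction_on with
      | zero => simp
      | tmul r n => rfl
      | add a b ha hb => simp only [TensorProduct.tmul_add, map_add, ha, hb]
    exact Function.Exact.of_ladder_linearEquiv_of_exact (g₁₂ := (d₁.lTensor R').restrictScalars A)
      (g₂₃ := (d₂.lTensor R').restrictScalars A) (comm _ _) (comm _ _) hN'
  have hc : Function.Exact ((P.d (i - 1) i).hom.lTensor N) ((P.d i (i + 1)).hom.lTensor N) :=
    Module.FaithfullyFlat.lTensor_reflects_exact C R' d₁ d₂ hb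
  exact Function.Exact.of_ladder_linearEquiv_of_exact (e₁ := TensorProduct.comm A _ _)
    (e₂ := TensorProduct.comm A _ _) (e₃ := TensorProduct.comm A _ _)
    (TensorProduct.ext' fun _ _ => rfl) (TensorProduct.ext' fun _ _ => rfl) hc

lemma nontrivial_tensor_field (k k' W : Type u) [Field k] [Field k'] [Algebra k k'] [AddCommGroup W] [Module k W]
    [Nontrivial W] : Nontrivial (k' ⊗[k] W) := Module.FaithfullyFlat.lTensor_nontrivial k k' W

set_option maxHeartbeats 800000 in
set_option synthInstance.maxHeartbeats 200000 in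
/-- A flat base change of a surjection is faithfully flat. -/
lemma faithfullyFlat_baseChange {A₀ L C B₀ : Type u} [CommRing A₀] [CommRing L] [CommRing C] [CommRing B₀]
    [Algebra A₀ A] [Algebra A₀ B₀] [Algebra A₀ L] [Algebra A₀ C] [Algebra A C] [Algebra L C]
    [IsScalarTower A₀ A C] [IsScalarTower A₀ L C] [Module.Flat L (L ⊗[A₀] B₀)]
    (hs : Function.Surjective (PrimeSpectrum.comap (algebraMap A (A ⊗[A₀] B₀)))) :
    Module.FaithfullyFlat C (C ⊗[A] (A ⊗[A₀] B₀)) := by
  haveI : Module.Flat C (C ⊗[A] (A ⊗[A₀] B₀)) :=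
    Module.Flat.of_linearEquiv ((AlgebraTensorModule.cancelBaseChange A₀ A C C B₀) ≪≫ₗ
      (AlgebraTensorModule.cancelBaseChange A₀ L C C B₀).symm)
  refine Module.FaithfullyFlat.of_comap_surjective fun p => ?_
  refine (PrimeSpectrum.nontrivial_iff_mem_rangeComap p).1 ?_
  let q := PrimeSpectrum.comap (algebraMap A C) p
  let l : q.asIdeal.ResidueField →+* p.asIdeal.ResidueField :=
    Ideal.ResidueField.map q.asIdeal p.asIdeal (algebraMap A C) rfl
  letI : Algebra q.asIdeal.ResidueField p.asIdeal.ResidueField := l.toAlgebra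
  haveI : IsScalarTower A q.asIdeal.ResidueField p.asIdeal.ResidueField := IsScalarTower.of_algebraMap_eq fun a => by
    rw [RingHom.algebraMap_toAlgebra, IsScalarTower.algebraMap_apply A C p.asIdeal.ResidueField]
    exact (Ideal.ResidueField.map_algebraMap _ _ _ _ a).symm
  haveI : Nontrivial (q.asIdeal.ResidueField ⊗[A] (A ⊗[A₀] B₀)) :=
    (PrimeSpectrum.nontrivial_iff_mem_rangeComap q).2 (hs q)
  haveI : Nontrivial (p.asIdeal.ResidueField ⊗[q.asIdeal.ResidueField]
      (q.asIdeal.ResidueField ⊗[A] (A ⊗[A₀] B₀))) :=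
    nontrivial_tensor_field _ _ _
  exact ((AlgebraTensorModule.cancelBaseChange A C p.asIdeal.ResidueField p.asIdeal.ResidueField
    (A ⊗[A₀] B₀)) ≪≫ₗ (AlgebraTensorModule.cancelBaseChange A q.asIdeal.ResidueField p.asIdeal.ResidueField
      p.asIdeal.ResidueField (A ⊗[A₀] B₀)).symm).toEquiv.nontrivial

variable {A₀ B₀ : Type u} [CommRing A₀] [CommRing B₀] [Algebra A₀ A] [Algebra A₀ B₀]

set_option maxHeartbeats 800000 in
set_option synthInstance.maxHeartbeats 200000 in
/-- Modules killed by a prime on which a suitable element is invertible. -/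
lemma exists_negExact_of_prime [IsNoetherianRing A₀] [Algebra.FiniteType A₀ B₀]
    (hs : Function.Surjective (PrimeSpectrum.comap (algebraMap A (A ⊗[A₀] B₀))))
    (h : FlatNeg (A ⊗[A₀] B₀) P) (J : Ideal A₀) [J.IsPrime] :
    ∃ g : A₀, g ∉ J ∧ ∀ (M : Type u) [AddCommGroup M] [Module A M],
      (∀ a ∈ J, ∀ x : M, algebraMap A₀ A a • x = 0) →
        NegExact P (LocalizedModule (Submonoid.powers (algebraMap A₀ A g)) M) := by
  let D := A₀ ⧸ J
  obtain ⟨f, hf, -, hfree, -⟩ := S0389.result (R := D) (S := D ⊗[A₀] B₀) (M := D ⊗[A₀] B₀)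
  obtain ⟨g, rfl⟩ := Ideal.Quotient.mk_surjective f
  refine ⟨g, fun hg => hf (Ideal.Quotient.eq_zero_iff_mem.2 hg), fun M _ _ hM => ?_⟩
  let L := Localization.Away (Ideal.Quotient.mk J g)
  haveI := hfree
  haveI : Module.Flat L (L ⊗[D] (D ⊗[A₀] B₀)) := Module.Flat.of_free
  haveI : Module.Flat L (L ⊗[A₀] B₀) :=
    Module.Flat.of_linearEquiv (AlgebraTensorModule.cancelBaseChange A₀ D L L B₀).symm
  let t := algebraMap A₀ A g
  let At := Localization (Submonoid.powers t)
  let Mt := LocalizedModule (Submonoid.powers t) M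
  let I : Ideal At := J.map (algebraMap A₀ At)
  let C := At ⧸ I
  have hC : ∀ a ∈ J, algebraMap A₀ C a = 0 := fun a ha => by
    rw [IsScalarTower.algebraMap_apply A₀ At C]
    exact Ideal.Quotient.eq_zero_iff_mem.2 (Ideal.mem_map_of_mem _ ha)
  let φ : D →+* C := Ideal.Quotient.lift J (algebraMap A₀ C) hC
  have hu : IsUnit (φ (Ideal.Quotient.mk J g)) := by
    rw [Ideal.Quotient.lift_mk, IsScalarTower.algebraMap_apply A₀ At C, IsScalarTower.algebraMap_apply A₀ A At]
    exact (IsLocalization.map_units At (⟨t, 1, pow_one t⟩ : Submonoid.powers t)).map _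
  letI : Algebra L C := (IsLocalization.Away.lift (S := L) (Ideal.Quotient.mk J g) hu).toAlgebra
  haveI : IsScalarTower A₀ L C := IsScalarTower.of_algebraMap_eq fun a => by
    rw [RingHom.algebraMap_toAlgebra, IsScalarTower.algebraMap_apply A₀ D L, IsLocalization.Away.lift_eq,
      Ideal.Quotient.algebraMap_eq, Ideal.Quotient.lift_mk]
  haveI := faithfullyFlat_baseChange (A := A) (L := L) (C := C) hs
  have hI : I ≤ Module.annihilator At Mt := by
    refine Ideal.map_le_iff_le_comap.2 fun a ha => ?_
    rw [Ideal.mem_comap, Module.mem_annihilator]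
    intro x
    induction x using LocalizedModule.induction_on with
    | h m s =>
      rw [IsScalarTower.algebraMap_apply A₀ A At, algebraMap_smul, LocalizedModule.smul'_mk, hM a ha,
        LocalizedModule.zero_mk]
  have hts : Module.IsTorsionBySet At Mt (I : Set At) := fun x a => Module.mem_annihilator.1 (hI a.2) x
  letI : Module C Mt := hts.module
  haveI : IsScalarTower A C Mt := IsScalarTower.of_algebraMap_smul fun a x => by
    rw [IsScalarTower.algebraMap_apply A At C]
    exact (Module.IsTorsionBySet.mk_smul hts _ x).trans (algebraMap_smul At a x)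
  exact negExact_of_faithful h C Mt

/-- Modules killed by an ideal of the noetherian base. -/
lemma negExact_of_kills (hP : ∀ n, Module.Flat A (P.X n)) [IsNoetherianRing A₀] [Algebra.FiniteType A₀ B₀]
    (hs : Function.Surjective (PrimeSpectrum.comap (algebraMap A (A ⊗[A₀] B₀))))
    (h : FlatNeg (A ⊗[A₀] B₀) P) : ∀ (J : Ideal A₀) (M : Type u) [AddCommGroup M] [Module A M],
      (∀ a ∈ J, ∀ x : M, algebraMap A₀ A a • x = 0) → NegExact P M := by
  intro J
  induction J using WellFoundedGT.induction with
  | ind J ih =>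
    intro M _ _ hM
    by_cases hJ : J.IsPrime
    · obtain ⟨g, hg, hg'⟩ := exists_negExact_of_prime hs h J
      let t := algebraMap A₀ A g
      let S := Submonoid.powers t
      let l := LocalizedModule.mkLinearMap S M
      have hlt : ∀ n : ℕ, J < J ⊔ Ideal.span {g ^ n} := fun n => lt_of_le_of_ne le_sup_left fun he =>
        hg (hJ.mem_of_pow_mem n (he.ge (Ideal.mem_sup_right (Ideal.mem_span_singleton_self _))))
      have htor : ∀ (X : Type u) [AddCommGroup X] [Module A X],
          (∀ a ∈ J, ∀ x : X, algebraMap A₀ A a • x = 0) → (∀ x : X, ∃ n : ℕ, t ^ n • x = 0) → NegExact P X :=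
        fun X _ _ hX htX => negExact_of_torsion hP t htX fun n => ih _ (hlt n) _ fun a ha x => by
          obtain ⟨b, hb, c, hc, rfl⟩ := Submodule.mem_sup.1 ha
          obtain ⟨r, rfl⟩ := Ideal.mem_span_singleton.1 hc
          apply Subtype.ext
          rw [Submodule.coe_smul, map_add, add_smul, hX b hb, zero_add, mul_comm, map_mul, mul_smul, map_pow,
            (Submodule.mem_torsionBy_iff _ _).1 x.2, smul_zero, ZeroMemClass.coe_zero]
      have hkerT : NegExact P (LinearMap.ker l) := htor _ (fun a ha x => Subtype.ext (hM a ha x)) fun x => by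
        obtain ⟨⟨-, n, rfl⟩, hc⟩ := (IsLocalizedModule.eq_zero_iff S l).1 x.2
        exact ⟨n, Subtype.ext hc⟩
      have hMt : ∀ a ∈ J, ∀ x : LocalizedModule S M, algebraMap A₀ A a • x = 0 := fun a ha x => by
        induction x using LocalizedModule.induction_on with
        | h m s => rw [LocalizedModule.smul'_mk, hM a ha, LocalizedModule.zero_mk]
      have hcoker : NegExact P (LocalizedModule S M ⧸ LinearMap.range l) := htor _ (fun a ha q => by
          obtain ⟨x, rfl⟩ := Submodule.mkQ_surjective _ q
          rw [← map_smul, hMt a ha, map_zero]) fun q => by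
        obtain ⟨x, rfl⟩ := Submodule.mkQ_surjective _ q
        obtain ⟨⟨m, ⟨-, n, rfl⟩⟩, hm⟩ := IsLocalizedModule.surj S l x
        exact ⟨n, by rw [← map_smul, Submodule.mkQ_apply, Submodule.Quotient.mk_eq_zero]; exact ⟨m, hm.symm⟩⟩
      have hrange : NegExact P (LinearMap.range l) :=
        negExact_left hP (LinearMap.range l).subtype (LinearMap.range l).mkQ Subtype.val_injective
          (Submodule.mkQ_surjective _) (LinearMap.exact_subtype_mkQ _) (hg' M hM) hcoker
      refine negExact_of_ext hP (LinearMap.ker l).subtype l.rangeRestrict Subtype.val_injective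
        l.surjective_rangeRestrict ?_ hkerT hrange
      exact LinearMap.exact_iff.2 (by rw [LinearMap.ker_rangeRestrict, Submodule.range_subtype])
    · rcases Ideal.not_isPrime_iff.1 hJ with rfl | ⟨a, ha, b, hb, hab⟩
      · haveI : Subsingleton M := subsingleton_of_forall_eq 0 fun x => by
          simpa using hM 1 Submodule.mem_top x
        exact negExact_of_subsingleton M
      · have hlt : ∀ c : A₀, c ∉ J → J < J ⊔ Ideal.span {c} := fun c hc => lt_of_le_of_ne le_sup_left
          fun he => hc (he.ge (Ideal.mem_sup_right (Ideal.mem_span_singleton_self _)))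
        let W := LinearMap.range (LinearMap.lsmul A M (algebraMap A₀ A a))
        refine negExact_of_ext hP W.subtype W.mkQ Subtype.val_injective (Submodule.mkQ_surjective _)
          (LinearMap.exact_subtype_mkQ _) (ih _ (hlt b hb) _ ?_) (ih _ (hlt a ha) _ ?_)
        · rintro c hc ⟨-, y, rfl⟩
          obtain ⟨p, hp, q, hq, rfl⟩ := Submodule.mem_sup.1 hc
          obtain ⟨r, rfl⟩ := Ideal.mem_span_singleton.1 hq
          apply Subtype.ext
          show algebraMap A₀ A (p + b * r) • algebraMap A₀ A a • y = 0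
          rw [smul_smul, ← map_mul]
          exact hM _ (by rw [add_mul, mul_comm b r, mul_assoc, mul_comm b a]
                         exact add_mem (J.mul_mem_right _ hp) (J.mul_mem_left _ hab)) y
        · intro c hc x
          obtain ⟨y, rfl⟩ := Submodule.mkQ_surjective W x
          obtain ⟨p, hp, q, hq, rfl⟩ := Submodule.mem_sup.1 hc
          obtain ⟨r, rfl⟩ := Ideal.mem_span_singleton.1 hq
          rw [← map_smul, Submodule.mkQ_apply, Submodule.Quotient.mk_eq_zero, map_add, add_smul, hM p hp,
            zero_add, map_mul, mul_smul]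
          exact ⟨algebraMap A₀ A r • y, rfl⟩

/-- All modules. -/
theorem exactAt_tensC_of_flatNeg (hPK : IsKF P) (hP : ∀ n, Module.Flat A (P.X n))
    (hH : ∀ m, 0 < m → IsZero (P.homology m)) [IsNoetherianRing A₀] [Algebra.FiniteType A₀ B₀]
    (hs : Function.Surjective (PrimeSpectrum.comap (algebraMap A (A ⊗[A₀] B₀))))
    (h : FlatNeg (A ⊗[A₀] B₀) P) (M : ModuleCat.{u} A) (i : ℤ) (hi : i ≠ 0) :
    ((tensC M).obj P).ExactAt i := by
  rcases hi.lt_or_gt with hi | hi
  · exact negExact_of_kills hP hs h ⊥ M (fun a ha x => by rw [(Submodule.mem_bot _).1 ha, map_zero, zero_smul]) i hi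
  · exact (HomologicalComplex.exactAt_iff_isZero_homology _ i).2
      (DRingRightExact.isZero_homology_tensC M hPK 0 hH i hi)

/-- Flat amplitude zero descends along surjective maps of finite presentation. -/
theorem hasTorAmplitudeIn_descends [Algebra.FinitePresentation A B]
    (hs : Function.Surjective (PrimeSpectrum.comap (algebraMap A B))) (K : Dual.D A)
    (hK : ∀ m, 0 < m → Subsingleton (Dual.HD A K m)) [DRing.HasLBaseChange (algebraMap A B)]
    (h : DRing.HasTorAmplitudeIn B 0 0 ((DRing.LBaseChange (algebraMap A B)).obj K)) :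
    DRing.HasTorAmplitudeIn A 0 0 K := by
  let K₀ := DerivedCategory.Q.objPreimage K
  let eK : DerivedCategory.Q.obj K₀ ≅ K := DerivedCategory.Q.objObjPreimageIso K
  obtain ⟨P, ψ, hψ, hflat, hPb⟩ := (ringCover A).exists_bounded_resolution K₀ 0 fun m hm =>
    (HomologicalComplex.exactAt_iff_isZero_homology _ m).1
      (PerfGen7.RelPerfectCriterion.exactAt_of_subsingleton eK m (hK m hm))
  haveI := hψ
  haveI : IsIso (DerivedCategory.Q.map ψ) := (DerivedCategory.isIso_Q_map_iff_quasiIso _ _).2 inferInstance
  let eP : DerivedCategory.Q.obj P ≅ K := asIso (DerivedCategory.Q.map ψ) ≪≫ eK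
  have hP : IsKF P := isKF_of_flat hflat hPb
  obtain ⟨E, hEz, hEf, ⟨eE⟩⟩ := h
  obtain ⟨eL⟩ := DRingLBase.nonempty_lbase_iso (algebraMap A B) hP
  have hv : Van 0 0 ((extC' (algebraMap A B)).obj P) :=
    (van_of_vanishesOutside hEz).transfer (isKF_of_flat hEf fun j hj => hEz j (Or.inr hj))
      (KFlatLib.kFlat_extendScalars (algebraMap A B) hP)
      (eE ≪≫ ((DRing.LBaseChange (algebraMap A B)).mapIso eP).symm ≪≫ eL)
  have hneg : FlatNeg B P := flatNeg_of_exactAt fun N i hi => hv N i (Or.inl hi)
  let Pr := Algebra.Presentation.ofFinitePresentation A B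
  let e := Pr.tensorModelOfHasCoeffsEquiv Pr.Core
  haveI : IsNoetherianRing Pr.Core := Algebra.FiniteType.isNoetherianRing ℤ Pr.Core
  have hs' : Function.Surjective (PrimeSpectrum.comap (algebraMap A (A ⊗[Pr.Core] Pr.ModelOfHasCoeffs Pr.Core))) := by
    intro p
    obtain ⟨q, rfl⟩ := hs p
    exact ⟨PrimeSpectrum.comap e.toAlgHom.toRingHom q, by
      rw [← PrimeSpectrum.comap_comp_apply]
      congr 2
      exact RingHom.ext e.commutes⟩
  have hneg' : FlatNeg (A ⊗[Pr.Core] Pr.ModelOfHasCoeffs Pr.Core) P := fun N _ _ _ _ => by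
    letI : Module B N := Module.compHom N e.symm.toAlgHom.toRingHom
    haveI : IsScalarTower A B N := IsScalarTower.of_algebraMap_smul fun a x => by
      show e.symm (algebraMap A B a) • x = a • x
      rw [AlgEquiv.commutes, algebraMap_smul]
    exact hneg N
  refine hasTorAmplitudeIn_of_van hP (fun M i hi => ?_) eP
  exact exactAt_tensC_of_flatNeg (A₀ := Pr.Core) (B₀ := Pr.ModelOfHasCoeffs Pr.Core) hP hflat
    (fun m hm => ShortComplex.isZero_homology_of_isZero_X₂ _ (hPb m hm)) hs' hneg' M i (by omega)

end Groth.Agent.FlatSurjDesc
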