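import Groth.Agent.H9Misc.DRingNilp
import Groth.Agent.PerfGen7.RelPerfectFibres

/-!
# Exactness of tensor products with modules, along a torsion filtration
-/

set_option linter.style.haveILetI false
set_option backward.isDefEq.respectTransparency false
set_option backward.isDefEq.respectTransparency.types false

universe u

open CategoryTheory CategoryTheory.Limits MonoidalCategory TensorProduct

attribute [local instance] HasDerivedCategory.standard

namespace Groth.Agent.FlatSurjDesc

open Groth.Agent.KFlatLib Groth.Agent.H9Misc DRingLTensor DRingTor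

variable {A : Type u} [CommRing A] (P : CochainComplex (ModuleCat.{u} A) ℤ)

/-- Exactness of `P ⊗ M` in the negative degrees. -/
def NegExact (M : Type u) [AddCommGroup M] [Module A M] : Prop :=
  ∀ i : ℤ, i < 0 → ((tensC (ModuleCat.of A M)).obj P).ExactAt i

lemma exactAt_iff_exact (M : Type u) [AddCommGroup M] [Module A M] (p q r : ℤ) (hpq : p + 1 = q) (hqr : q + 1 = r) :
    ((tensC (ModuleCat.of A M)).obj P).ExactAt q ↔
      Function.Exact ((P.d p q).hom.rTensor M) ((P.d q r).hom.rTensor M) := by
  rw [HomologicalComplex.exactAt_iff' _ p q r (by simp; omega) (by simp; omega)]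
  exact ShortComplex.ShortExact.moduleCat_exact_iff_function_exact _

variable {P}

lemma negExact_of_subsingleton (M : Type u) [AddCommGroup M] [Module A M] [Subsingleton M] : NegExact P M :=
  fun i _ => (HomologicalComplex.exactAt_iff_isZero_homology _ i).2
    (ShortComplex.isZero_homology_of_isZero_X₂ _
      ((tensorLeft (P.X i)).map_isZero (ModuleCat.isZero_of_subsingleton _)))

variable (hP : ∀ n, Module.Flat A (P.X n))
include hP

/-- Extensions. -/
lemma negExact_of_ext {L M N : Type u} [AddCommGroup L] [Module A L] [AddCommGroup M] [Module A M]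
    [AddCommGroup N] [Module A N] (f : L →ₗ[A] M) (g : M →ₗ[A] N) (hf : Function.Injective f)
    (hg : Function.Surjective g) (hfg : Function.Exact f g) (hL : NegExact P L) (hN : NegExact P N) :
    NegExact P M := fun i hi => by
  let S : ShortComplex (ModuleCat.{u} A) := ShortComplex.mk (ModuleCat.ofHom f) (ModuleCat.ofHom g)
    (ModuleCat.hom_ext hfg.linearMap_comp_eq_zero)
  have hS : S.ShortExact :=
    { exact := (ShortComplex.ShortExact.moduleCat_exact_iff_function_exact _).2 hfg
      mono_f := (ModuleCat.mono_iff_injective _).2 hf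
      epi_g := (ModuleCat.epi_iff_surjective _).2 hg }
  exact DRingNilp.exactAt_of_ses hP hS i (hL i hi) (hN i hi)

/-- Kernels. -/
lemma negExact_left {L M N : Type u} [AddCommGroup L] [Module A L] [AddCommGroup M] [Module A M]
    [AddCommGroup N] [Module A N] (f : L →ₗ[A] M) (g : M →ₗ[A] N) (hf : Function.Injective f)
    (hg : Function.Surjective g) (hfg : Function.Exact f g) (hM : NegExact P M) (hN : NegExact P N) :
    NegExact P L := fun i hi => by
  rw [exactAt_iff_exact P L (i - 1) i (i + 1) (by omega) rfl]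
  haveI := hP (i + 1)
  haveI := hP i
  have hM' := (exactAt_iff_exact P M (i - 1) i (i + 1) (by omega) rfl).1 (hM i hi)
  have hN' := (exactAt_iff_exact P N (i - 1 - 1) (i - 1) i (by omega) (by omega)).1 (hN (i - 1) (by omega))
  have comm : ∀ {U V : Type u} [AddCommGroup U] [Module A U] [AddCommGroup V] [Module A V] (e : U →ₗ[A] V)
      (p q : ℤ) (z), (P.d p q).hom.rTensor V (e.lTensor (P.X p) z) = e.lTensor (P.X q) ((P.d p q).hom.rTensor U z) :=
    fun e p q z => LinearMap.congr_fun ((LinearMap.rTensor_comp_lTensor (f := (P.d p q).hom) (g := e)).trans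
      (LinearMap.lTensor_comp_rTensor (f := (P.d p q).hom) (g := e)).symm) z
  have hdd : ∀ {U : Type u} [AddCommGroup U] [Module A U] (p q r : ℤ) (z),
      (P.d q r).hom.rTensor U ((P.d p q).hom.rTensor U z) = 0 := fun p q r z => by
    rw [← LinearMap.comp_apply, ← LinearMap.rTensor_comp, ← ModuleCat.hom_comp, P.d_comp_d]
    simp
  refine fun z => ⟨fun hz => ?_, fun ⟨w, hw⟩ => hw ▸ hdd _ _ _ w⟩
  obtain ⟨y, hy⟩ := (hM' (f.lTensor (P.X i) z)).1 (by rw [comm, hz, map_zero])
  obtain ⟨x, hx⟩ := (hN' (g.lTensor (P.X (i - 1)) y)).1 (by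
    rw [comm, hy, ← LinearMap.comp_apply, ← LinearMap.lTensor_comp, hfg.linearMap_comp_eq_zero]
    simp)
  obtain ⟨x', rfl⟩ := LinearMap.lTensor_surjective (P.X (i - 1 - 1)) hg x
  obtain ⟨w, hw⟩ := ((lTensor_exact (P.X (i - 1)) hfg hg) _).1
    (show g.lTensor (P.X (i - 1)) (y - (P.d (i - 1 - 1) (i - 1)).hom.rTensor M x') = 0 by
      rw [map_sub, ← comm, hx, sub_self])
  refine ⟨w, Module.Flat.lTensor_preserves_injective_linearMap (M := P.X i) f hf ?_⟩
  rw [← comm, hw, map_sub, hdd, sub_zero, hy]

/-- Modules which are torsion for a map. -/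
lemma negExact_of_torsion {M : Type u} [AddCommGroup M] [Module A M] (t : A)
    (ht : ∀ x : M, ∃ n : ℕ, t ^ n • x = 0)
    (h : ∀ n : ℕ, NegExact P (Submodule.torsionBy A M (t ^ n))) : NegExact P M := fun i hi => by
  rw [exactAt_iff_exact P M (i - 1) i (i + 1) (by omega) rfl]
  have hdd : ∀ {U : Type u} [AddCommGroup U] [Module A U] (p q r : ℤ) (z),
      (P.d q r).hom.rTensor U ((P.d p q).hom.rTensor U z) = 0 := fun p q r z => by
    rw [← LinearMap.comp_apply, ← LinearMap.rTensor_comp, ← ModuleCat.hom_comp, P.d_comp_d]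
    simp
  refine fun z => ⟨fun hz => ?_, fun ⟨w, hw⟩ => hw ▸ hdd _ _ _ w⟩
  have hmono : ∀ {n m : ℕ}, n ≤ m → Submodule.torsionBy A M (t ^ n) ≤ Submodule.torsionBy A M (t ^ m) :=
    fun {n m} hnm => Submodule.torsionBy_le_torsionBy_of_dvd _ _ (pow_dvd_pow t hnm)
  have hz' : ∃ (n : ℕ) (w : P.X i ⊗[A] Submodule.torsionBy A M (t ^ n)),
      (Submodule.torsionBy A M (t ^ n)).subtype.lTensor (P.X i) w = z := by
    clear hz
    induction z using TensorProduct.induction_on with
    | zero => exact ⟨0, 0, map_zero _⟩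
    | tmul p x =>
      obtain ⟨n, hn⟩ := ht x
      exact ⟨n, p ⊗ₜ ⟨x, (Submodule.mem_torsionBy_iff _ _).2 hn⟩, rfl⟩
    | add a b ha hb =>
      obtain ⟨n, wa, rfl⟩ := ha
      obtain ⟨m, wb, rfl⟩ := hb
      refine ⟨max n m, (Submodule.inclusion (hmono (le_max_left n m))).lTensor (P.X i) wa +
        (Submodule.inclusion (hmono (le_max_right n m))).lTensor (P.X i) wb, ?_⟩
      rw [map_add, ← LinearMap.comp_apply, ← LinearMap.comp_apply, ← LinearMap.lTensor_comp,
        ← LinearMap.lTensor_comp, Submodule.subtype_comp_inclusion, Submodule.subtype_comp_inclusion]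
  obtain ⟨n, w, rfl⟩ := hz'
  let T := Submodule.torsionBy A M (t ^ n)
  have comm : ∀ (p q : ℤ) (z), (P.d p q).hom.rTensor M (T.subtype.lTensor (P.X p) z) =
      T.subtype.lTensor (P.X q) ((P.d p q).hom.rTensor T z) :=
    fun p q z => LinearMap.congr_fun ((LinearMap.rTensor_comp_lTensor (f := (P.d p q).hom) (g := T.subtype)).trans
      (LinearMap.lTensor_comp_rTensor (f := (P.d p q).hom) (g := T.subtype)).symm) z
  haveI := hP (i + 1)
  rw [comm] at hz
  obtain ⟨v, hv⟩ := ((exactAt_iff_exact P T (i - 1) i (i + 1) (by omega) rfl).1 (h n i hi) w).1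
    (Module.Flat.lTensor_preserves_injective_linearMap (M := P.X (i + 1)) T.subtype T.injective_subtype
      (hz.trans (map_zero _).symm))
  exact ⟨T.subtype.lTensor (P.X (i - 1)) v, by rw [comm, hv]⟩

end Groth.Agent.FlatSurjDesc
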